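import Groth.Agent.H29Ell.PicGroup

/-!
# The group law on a family of genus one curves is commutative
-/

set_option autoImplicit false
set_option linter.style.haveILetI false
set_option linter.unusedSectionVars false
set_option maxHeartbeats 1200000
set_option backward.isDefEq.respectTransparency.types false

universe u

open CategoryTheory CategoryTheory.Limits AlgebraicGeometry Opposite MonoidalCategory CartesianMonoidalCategory MonObj

namespace Groth.Agent.H29Ell

variable {E S : Scheme.{u}} (f : E ⟶ S) (e : S ⟶ E) (he : e ≫ f = 𝟙 S)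
  [IsProper f] [SmoothOfRelativeDimension 1 f] [GeometricallyConnected f]
  (hg : ∀ s : S, CohIII.fiberRank f (Coh.structureModule E) 1 s = 1)
  {LΔ : (PicF.XT f (Over.mk f)).Modules} (hLΔ : PicF.IsInvertible LΔ)
  (hΔ : ClSub.IsInverseOf LΔ (ClSub.idealMod (pullback.diagonal f).ker))

theorem isCommMonObj : letI := grpObj f e he hg hLΔ hΔ; IsCommMonObj (Over.mk f) := by
  letI := grpObj f e he hg hLΔ hΔ
  let α := jRep f e he hg hLΔ hΔ
  have hμ : μ[Over.mk f] = α.homEquiv.symm
      ((show jSub f e he (Over.mk f ⊗ Over.mk f) from α.homEquiv (fst (Over.mk f) (Over.mk f))) *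
        (show jSub f e he (Over.mk f ⊗ Over.mk f) from α.homEquiv (snd (Over.mk f) (Over.mk f)))) := rfl
  refine ⟨α.homEquiv.injective ?_⟩
  rw [α.homEquiv_comp, hμ, Equiv.apply_symm_apply]
  show jMap f e he (β_ _ _).hom (_ * _) = _ * _
  rw [map_mul]
  show (_ : jSub f e he _) * _ = _
  rw [show jMap f e he (β_ (Over.mk f) (Over.mk f)).hom (α.homEquiv (fst (Over.mk f) (Over.mk f))) =
      α.homEquiv (snd (Over.mk f) (Over.mk f)) from (α.homEquiv_comp _ _).symm.trans (congrArg _ (braiding_hom_fst _ _)),
    show jMap f e he (β_ (Over.mk f) (Over.mk f)).hom (α.homEquiv (snd (Over.mk f) (Over.mk f))) =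
      α.homEquiv (fst (Over.mk f) (Over.mk f)) from (α.homEquiv_comp _ _).symm.trans (congrArg _ (braiding_hom_snd _ _))]
  exact mul_comm _ _

end Groth.Agent.H29Ell
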